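import Mathlib

/-!
# Elements of the Weyl group of type `E₇` as integer matrices

The simple reflections act on the root lattice by the matrices `S i`; for six words of even length the order of the
matrix of the word is computed over `ℤ`, together with an entry `± 1` of `M ^ (n / p) - 1`, so that the order is the
same modulo every prime.
-/

set_option autoImplicit false

namespace Cfsg.Agent.H695.ESeven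

open Matrix

/-- The Cartan matrix of type `E₇`. -/
def C : Matrix (Fin 7) (Fin 7) ℤ :=
  !![2, 0, -1, 0, 0, 0, 0; 0, 2, 0, -1, 0, 0, 0; -1, 0, 2, -1, 0, 0, 0; 0, -1, -1, 2, -1, 0, 0; 0, 0, 0, -1, 2, -1, 0; 0, 0, 0, 0, -1, 2, -1; 0, 0, 0, 0, 0, -1, 2]

/-- The matrices of the simple reflections on the root lattice. -/
def S (i : Fin 7) : Matrix (Fin 7) (Fin 7) ℤ := 1 - vecMulVec (Pi.single i 1) (C i)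

/-- The matrix of a word in the simple reflections. -/
def wm (l : List (Fin 7)) : Matrix (Fin 7) (Fin 7) ℤ := (l.map S).prod

def M7 : Matrix (Fin 7) (Fin 7) ℤ :=
  !![-1, 0, 1, 0, 0, 0, 0; 0, 1, 0, 0, 0, 0, 0; -1, 1, 1, 0, 0, 0, -1; 0, 1, 1, 0, 0, 0, -1; 0, 0, 0, 1, 0, 0, -1; 0, 0, 0, 0, 1, 0, -1; 0, 0, 0, 0, 0, 1, -1]

theorem wm_7 : wm [2, 3, 0, 4, 5, 6] = M7 := by decide +kernel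

def M7_2 : Matrix (Fin 7) (Fin 7) ℤ :=
  !![0, 1, 0, 0, 0, 0, -1; 0, 1, 0, 0, 0, 0, 0; 0, 2, 0, 0, 0, -1, 0; -1, 2, 1, 0, 0, -1, 0; 0, 1, 1, 0, 0, -1, 0; 0, 0, 0, 1, 0, -1, 0; 0, 0, 0, 0, 1, -1, 0]

theorem pow7_2 : M7 ^ 2 = M7_2 := by
  rw [show M7 ^ 2 = M7 ^ 1 * M7 ^ 1 from pow_add _ 1 1, pow_one]
  decide +kernel

def M7_3 : Matrix (Fin 7) (Fin 7) ℤ :=
  !![0, 1, 0, 0, 0, -1, 1; 0, 1, 0, 0, 0, 0, 0; 0, 2, 0, 0, -1, 0, 1; 0, 3, 0, 0, -1, 0, 0; -1, 2, 1, 0, -1, 0, 0; 0, 1, 1, 0, -1, 0, 0; 0, 0, 0, 1, -1, 0, 0]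

theorem pow7_3 : M7 ^ 3 = M7_3 := by
  rw [show M7 ^ 3 = M7 ^ 2 * M7 ^ 1 from pow_add _ 2 1, pow_one, pow7_2]
  decide +kernel

def M7_6 : Matrix (Fin 7) (Fin 7) ℤ :=
  !![0, 0, -1, 1, 0, 0, 0; 0, 1, 0, 0, 0, 0, 0; 1, 0, -1, 1, 0, 0, 0; 1, 1, -1, 0, 1, 0, 0; 1, 1, -1, 0, 0, 1, 0; 1, 1, -1, 0, 0, 0, 1; 1, 1, -1, 0, 0, 0, 0]

theorem pow7_6 : M7 ^ 6 = M7_6 := by
  rw [show M7 ^ 6 = M7 ^ 3 * M7 ^ 3 from pow_add _ 3 3, pow7_3]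
  decide +kernel

theorem pow7_7 : M7 ^ 7 = 1 := by
  rw [show M7 ^ 7 = M7 ^ 6 * M7 ^ 1 from pow_add _ 6 1, pow_one, pow7_6]
  decide +kernel

def M8 : Matrix (Fin 7) (Fin 7) ℤ :=
  !![-1, 0, 1, 0, 0, 0, 0; 0, -1, 0, 1, 0, 0, 0; -1, 0, 0, 1, 0, 0, 0; -1, -1, 0, 2, -1, 1, 0; 0, 0, 0, 1, -1, 1, 0; 0, 0, 0, 0, 0, 1, 0; 0, 0, 0, 0, 0, 1, -1]

theorem wm_8 : wm [3, 6, 1, 4, 2, 0] = M8 := by decide +kernel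

def M8_2 : Matrix (Fin 7) (Fin 7) ℤ :=
  !![0, 0, -1, 1, 0, 0, 0; -1, 0, 0, 1, -1, 1, 0; 0, -1, -1, 2, -1, 1, 0; -1, -1, -1, 2, -1, 2, 0; -1, -1, 0, 1, 0, 1, 0; 0, 0, 0, 0, 0, 1, 0; 0, 0, 0, 0, 0, 0, 1]

theorem pow8_2 : M8 ^ 2 = M8_2 := by
  rw [show M8 ^ 2 = M8 ^ 1 * M8 ^ 1 from pow_add _ 1 1, pow_one]
  decide +kernel

def M8_4 : Matrix (Fin 7) (Fin 7) ℤ :=
  !![-1, 0, 0, 0, 0, 1, 0; 0, 0, 0, 0, -1, 2, 0; 0, 0, -1, 0, 0, 2, 0; 0, 0, 0, -1, 0, 3, 0; 0, -1, 0, 0, 0, 2, 0; 0, 0, 0, 0, 0, 1, 0; 0, 0, 0, 0, 0, 0, 1]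

theorem pow8_4 : M8 ^ 4 = M8_4 := by
  rw [show M8 ^ 4 = M8 ^ 2 * M8 ^ 2 from pow_add _ 2 2, pow8_2]
  decide +kernel

theorem pow8_8 : M8 ^ 8 = 1 := by
  rw [show M8 ^ 8 = M8 ^ 4 * M8 ^ 4 from pow_add _ 4 4, pow8_4]
  decide +kernel

def M9 : Matrix (Fin 7) (Fin 7) ℤ :=
  !![0, 0, 1, -1, 0, 1, 0; 0, 0, 1, -1, 1, 0, 0; 1, 0, 1, -1, 0, 1, 0; 0, 0, 2, -1, 0, 1, 0; 0, -1, 1, 0, 0, 1, 0; 0, -1, 1, 0, 0, 0, 1; 0, 0, 0, 0, 0, 0, 1]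

theorem wm_9 : wm [0, 5, 2, 4, 3, 4, 1, 3] = M9 := by decide +kernel

def M9_2 : Matrix (Fin 7) (Fin 7) ℤ :=
  !![1, -1, 0, 0, 0, 0, 1; 1, -1, 0, 0, 0, 1, 0; 1, -1, 1, -1, 0, 1, 1; 2, -1, 1, -1, 0, 1, 1; 1, -1, 1, 0, -1, 1, 1; 1, 0, 0, 0, -1, 1, 1; 0, 0, 0, 0, 0, 0, 1]

theorem pow9_2 : M9 ^ 2 = M9_2 := by
  rw [show M9 ^ 2 = M9 ^ 1 * M9 ^ 1 from pow_add _ 1 1, pow_one]
  decide +kernel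

def M9_3 : Matrix (Fin 7) (Fin 7) ℤ :=
  !![0, 0, 0, 0, -1, 1, 1; 0, -1, 1, 0, -1, 1, 1; 1, -1, 0, 0, -1, 1, 2; 1, -1, 1, -1, -1, 2, 2; 1, 0, 1, -1, -1, 1, 2; 0, 0, 1, -1, 0, 0, 2; 0, 0, 0, 0, 0, 0, 1]

theorem pow9_3 : M9 ^ 3 = M9_3 := by
  rw [show M9 ^ 3 = M9 ^ 2 * M9 ^ 1 from pow_add _ 2 1, pow_one, pow9_2]
  decide +kernel

def M9_6 : Matrix (Fin 7) (Fin 7) ℤ :=
  !![-1, 0, 0, 0, 1, -1, 1; 0, 0, -1, 0, 1, -1, 2; -1, 1, -1, 0, 1, -1, 2; -1, 1, -1, 0, 1, -2, 4; -1, 0, -1, 1, 0, -1, 3; 0, 0, -1, 1, 0, -1, 2; 0, 0, 0, 0, 0, 0, 1]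

theorem pow9_6 : M9 ^ 6 = M9_6 := by
  rw [show M9 ^ 6 = M9 ^ 3 * M9 ^ 3 from pow_add _ 3 3, pow9_3]
  decide +kernel

theorem pow9_9 : M9 ^ 9 = 1 := by
  rw [show M9 ^ 9 = M9 ^ 6 * M9 ^ 3 from pow_add _ 6 3, pow9_6, pow9_3]
  decide +kernel

def M10 : Matrix (Fin 7) (Fin 7) ℤ :=
  !![1, 0, 0, 0, 0, 0, 0; 0, -1, 0, 1, 0, 0, 0; 1, 0, -1, 1, 0, 0, 0; 1, -1, -1, 2, 0, -1, 1; 0, 0, 0, 1, 0, -1, 1; 0, 0, 0, 0, 1, -1, 1; 0, 0, 0, 0, 1, -1, 0]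

theorem wm_10 : wm [3, 6, 2, 4, 5, 1] = M10 := by decide +kernel

def M10_2 : Matrix (Fin 7) (Fin 7) ℤ :=
  !![1, 0, 0, 0, 0, 0, 0; 1, 0, -1, 1, 0, -1, 1; 1, -1, 0, 1, 0, -1, 1; 2, -1, -1, 2, 0, -2, 1; 1, -1, -1, 2, 0, -1, 0; 0, 0, 0, 1, 0, -1, 0; 0, 0, 0, 1, -1, 0, 0]

theorem pow10_2 : M10 ^ 2 = M10_2 := by
  rw [show M10 ^ 2 = M10 ^ 1 * M10 ^ 1 from pow_add _ 1 1, pow_one]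
  decide +kernel

def M10_4 : Matrix (Fin 7) (Fin 7) ℤ :=
  !![1, 0, 0, 0, 0, 0, 0; 2, 0, -1, 1, -1, 0, 0; 2, -1, 0, 1, -1, 0, 0; 4, -1, -1, 1, -1, 0, 0; 3, -1, -1, 1, 0, -1, 0; 2, -1, -1, 1, 0, -1, 1; 1, 0, 0, 0, 0, -1, 1]

theorem pow10_4 : M10 ^ 4 = M10_4 := by
  rw [show M10 ^ 4 = M10 ^ 2 * M10 ^ 2 from pow_add _ 2 2, pow10_2]
  decide +kernel

def M10_5 : Matrix (Fin 7) (Fin 7) ℤ :=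
  !![1, 0, 0, 0, 0, 0, 0; 2, -1, 0, 0, 0, 0, 0; 3, 0, -1, 0, 0, 0, 0; 4, 0, 0, -1, 0, 0, 0; 3, 0, 0, 0, -1, 0, 0; 2, 0, 0, 0, 0, -1, 0; 1, 0, 0, 0, 0, 0, -1]

theorem pow10_5 : M10 ^ 5 = M10_5 := by
  rw [show M10 ^ 5 = M10 ^ 4 * M10 ^ 1 from pow_add _ 4 1, pow_one, pow10_4]
  decide +kernel

theorem pow10_10 : M10 ^ 10 = 1 := by
  rw [show M10 ^ 10 = M10 ^ 5 * M10 ^ 5 from pow_add _ 5 5, pow10_5]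
  decide +kernel

def M12 : Matrix (Fin 7) (Fin 7) ℤ :=
  !![-1, 0, 1, 0, 0, 0, 0; 0, -1, 0, 1, 0, 0, 0; -1, -1, 1, 1, -1, 1, 0; 0, -1, 1, 1, -1, 1, 0; 0, 0, 0, 1, -1, 1, 0; 0, 0, 0, 1, -1, 0, 1; 0, 0, 0, 0, 0, 0, 1]

theorem wm_12 : wm [2, 5, 3, 0, 4, 1] = M12 := by decide +kernel

def M12_2 : Matrix (Fin 7) (Fin 7) ℤ :=
  !![0, -1, 0, 1, -1, 1, 0; 0, 0, 1, 0, -1, 1, 0; 0, -1, 1, 1, -2, 1, 1; -1, -1, 2, 1, -2, 1, 1; 0, -1, 1, 1, -1, 0, 1; 0, -1, 1, 0, 0, 0, 1; 0, 0, 0, 0, 0, 0, 1]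

theorem pow12_2 : M12 ^ 2 = M12_2 := by
  rw [show M12 ^ 2 = M12 ^ 1 * M12 ^ 1 from pow_add _ 1 1, pow_one]
  decide +kernel

def M12_4 : Matrix (Fin 7) (Fin 7) ℤ :=
  !![-1, -1, 1, 0, 0, 0, 1; 0, -1, 1, 0, -1, 1, 1; -1, -1, 1, 0, -1, 1, 2; -1, -1, 2, 0, -2, 1, 3; -1, -1, 1, 1, -2, 1, 2; 0, -1, 0, 1, -1, 0, 2; 0, 0, 0, 0, 0, 0, 1]

theorem pow12_4 : M12 ^ 4 = M12_4 := by
  rw [show M12 ^ 4 = M12 ^ 2 * M12 ^ 2 from pow_add _ 2 2, pow12_2]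
  decide +kernel

def M12_6 : Matrix (Fin 7) (Fin 7) ℤ :=
  !![0, 0, 0, 0, 0, -1, 2; 0, -1, 0, 0, 0, 0, 2; 0, 0, 0, -1, 1, -1, 3; 0, 0, 0, -1, 0, 0, 4; -1, 0, 1, -1, 0, 0, 3; -1, 0, 0, 0, 0, 0, 2; 0, 0, 0, 0, 0, 0, 1]

theorem pow12_6 : M12 ^ 6 = M12_6 := by
  rw [show M12 ^ 6 = M12 ^ 4 * M12 ^ 2 from pow_add _ 4 2, pow12_4, pow12_2]
  decide +kernel

theorem pow12_12 : M12 ^ 12 = 1 := by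
  rw [show M12 ^ 12 = M12 ^ 6 * M12 ^ 6 from pow_add _ 6 6, pow12_6]
  decide +kernel

def M15 : Matrix (Fin 7) (Fin 7) ℤ :=
  !![-1, 0, 1, 0, 0, 0, 0; 0, 0, 1, -1, 1, 0, 0; -1, 1, 1, -1, 1, 0, 0; 0, 1, 1, -1, 1, 0, 0; 0, 0, 0, 0, 1, 0, 0; 0, 0, 0, 0, 1, 0, -1; 0, 0, 0, 0, 0, 1, -1]

theorem wm_15 : wm [5, 1, 2, 6, 3, 0] = M15 := by decide +kernel

def M15_2 : Matrix (Fin 7) (Fin 7) ℤ :=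
  !![0, 1, 0, -1, 1, 0, 0; -1, 0, 0, 0, 1, 0, 0; 0, 0, 0, -1, 2, 0, 0; -1, 0, 1, -1, 2, 0, 0; 0, 0, 0, 0, 1, 0, 0; 0, 0, 0, 0, 1, -1, 1; 0, 0, 0, 0, 1, -1, 0]

theorem pow15_2 : M15 ^ 2 = M15_2 := by
  rw [show M15 ^ 2 = M15 ^ 1 * M15 ^ 1 from pow_add _ 1 1, pow_one]
  decide +kernel

def M15_3 : Matrix (Fin 7) (Fin 7) ℤ :=
  !![0, -1, 0, 0, 1, 0, 0; 1, 0, -1, 0, 1, 0, 0; 0, -1, -1, 1, 1, 0, 0; 0, 0, -1, 0, 2, 0, 0; 0, 0, 0, 0, 1, 0, 0; 0, 0, 0, 0, 0, 1, 0; 0, 0, 0, 0, 0, 0, 1]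

theorem pow15_3 : M15 ^ 3 = M15_3 := by
  rw [show M15 ^ 3 = M15 ^ 2 * M15 ^ 1 from pow_add _ 2 1, pow_one, pow15_2]
  decide +kernel

def M15_5 : Matrix (Fin 7) (Fin 7) ℤ :=
  !![1, 0, 0, 0, 0, 0, 0; 0, 1, 0, 0, 0, 0, 0; 0, 0, 1, 0, 0, 0, 0; 0, 0, 0, 1, 0, 0, 0; 0, 0, 0, 0, 1, 0, 0; 0, 0, 0, 0, 1, -1, 1; 0, 0, 0, 0, 1, -1, 0]

theorem pow15_5 : M15 ^ 5 = M15_5 := by
  rw [show M15 ^ 5 = M15 ^ 3 * M15 ^ 2 from pow_add _ 3 2, pow15_3, pow15_2]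
  decide +kernel

def M15_10 : Matrix (Fin 7) (Fin 7) ℤ :=
  !![1, 0, 0, 0, 0, 0, 0; 0, 1, 0, 0, 0, 0, 0; 0, 0, 1, 0, 0, 0, 0; 0, 0, 0, 1, 0, 0, 0; 0, 0, 0, 0, 1, 0, 0; 0, 0, 0, 0, 1, 0, -1; 0, 0, 0, 0, 0, 1, -1]

theorem pow15_10 : M15 ^ 10 = M15_10 := by
  rw [show M15 ^ 10 = M15 ^ 5 * M15 ^ 5 from pow_add _ 5 5, pow15_5]
  decide +kernel

theorem pow15_15 : M15 ^ 15 = 1 := by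
  rw [show M15 ^ 15 = M15 ^ 10 * M15 ^ 5 from pow_add _ 10 5, pow15_10, pow15_5]
  decide +kernel

end Cfsg.Agent.H695.ESeven
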