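import Mathlib
import Cfsg.Agent.H695.ESevenMat
import Cfsg.Agent.ClassicalGeometry.Reflection
import Cfsg.Agent.LieClassical.OrthCenter
import Cfsg.Agent.LieClassical.OmegaReindex
import Cfsg.Agent.H92.KTools

/-!
# Root systems of type `E₇` in quadratic spaces

A `Frame` in a quadratic space is a linearly independent system of seven vectors with the Gram matrix of `E₇`. The
reflections generate the Weyl group, the words of even length lie in `Omega`, and `POmega` has elements of the orders
`7, 8, 9, 10, 12, 15`. So `POmega` has at least twelve classes.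
-/

set_option autoImplicit false

namespace Cfsg.Agent.H695.ESeven

open Matrix QuadraticMap Cfsg.Agent.ClassicalGeometry.Reflection

theorem S_mulVec {R : Type*} [CommRing R] (i : Fin 7) (x : Fin 7 → R) :
    (S i).map (Int.castRingHom R) *ᵥ x = x - (∑ j, (C i j : R) * x j) • (Pi.single i 1 : Fin 7 → R) := by
  have h : (S i).map (Int.castRingHom R)
      = 1 - vecMulVec (Pi.single i 1) (fun j => (C i j : R)) := by
    ext k l
    rw [S, Matrix.map_apply, Matrix.sub_apply, Matrix.sub_apply, map_sub, vecMulVec_apply, vecMulVec_apply,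
      map_mul]
    congr 1
    · by_cases hkl : k = l
      · subst hkl; simp
      · simp [Matrix.one_apply_ne hkl]
    · by_cases hki : k = i
      · subst hki; simp
      · simp [Pi.single_eq_of_ne hki]
  rw [h, Matrix.sub_mulVec, Matrix.one_mulVec, Matrix.vecMulVec_mulVec, op_smul_eq_smul]
  rfl

theorem det_S (i : Fin 7) : (S i).det = -1 := by
  have h : S i = 1 + Matrix.replicateCol Unit (-Pi.single i (1 : ℤ)) * Matrix.replicateRow Unit (C i) := by
    rw [S, ← Matrix.vecMulVec_eq, Matrix.neg_vecMulVec, sub_eq_add_neg]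
  rw [h, Matrix.det_one_add_replicateCol_mul_replicateRow, dotProduct_neg, dotProduct_single_one]
  revert i
  decide

theorem det_wm (l : List (Fin 7)) : (wm l).det = (-1) ^ l.length := by
  induction l with
  | nil => simp [wm]
  | cons i l ih =>
    rw [wm, List.map_cons, List.prod_cons, Matrix.det_mul, det_S, List.length_cons, pow_succ']
    rw [wm] at ih
    rw [ih]

theorem S_conj' (i : Fin 7) : ∀ j : Fin 7, C i j ≠ -1 ∨
    (S i * S j) *ᵥ (Pi.single i 1 : Fin 7 → ℤ) = (Pi.single j 1 : Fin 7 → ℤ) := by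
  fin_cases i <;> decide +kernel

theorem S_conj (i j : Fin 7) (h : C i j = -1) :
    (S i * S j) *ᵥ (Pi.single i 1 : Fin 7 → ℤ) = (Pi.single j 1 : Fin 7 → ℤ) :=
  (S_conj' i j).resolve_left fun h1 => h1 h

variable {F : Type*} [Field F] {ι : Type} [Fintype ι] [DecidableEq ι]

/-- The word matrix over `F`. -/
def wF (F : Type*) [Field F] (l : List (Fin 7)) : Matrix (Fin 7) (Fin 7) F :=
  (Int.castRingHom F).mapMatrix (wm l)

theorem wF_nil : wF F [] = 1 := by rw [wF, wm, List.map_nil, List.prod_nil, map_one]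

theorem wF_cons (i : Fin 7) (l : List (Fin 7)) : wF F (i :: l) = (S i).map (Int.castRingHom F) * wF F l := by
  rw [wF, wm, List.map_cons, List.prod_cons, map_mul]; rfl

theorem det_wF (l : List (Fin 7)) : (wF F l).det = (-1) ^ l.length := by
  rw [wF, ← RingHom.map_det, det_wm, map_pow, map_neg, map_one]

/-- A linearly independent system of seven vectors with the Gram matrix of type `E₇`. -/
structure Frame (Q : QuadraticForm F (ι → F)) where
  a : Fin 7 → ι → F
  c : F
  hc : c ≠ 0
  hQ : ∀ i, Q (a i) = c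
  hB : ∀ i j, polar (⇑Q) (a i) (a j) = c * (C i j : F)
  li : ∀ x : Fin 7 → F, ∑ j, x j • a j = 0 → x = 0

namespace Frame

variable {Q : QuadraticForm F (ι → F)} (D : Frame Q)

/-- The linear map of the frame. -/
def A : (Fin 7 → F) →ₗ[F] (ι → F) := Fintype.linearCombination F D.a

omit [Fintype ι] [DecidableEq ι] in
theorem A_apply (x : Fin 7 → F) : D.A x = ∑ j, x j • D.a j := rfl

omit [Fintype ι] [DecidableEq ι] in
theorem A_single (i : Fin 7) : D.A (Pi.single i 1) = D.a i := by
  rw [A_apply, Finset.sum_eq_single i]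
  · simp
  · intro j _ hj; simp [Pi.single_eq_of_ne hj]
  · intro h; exact absurd (Finset.mem_univ _) h

omit [Fintype ι] [DecidableEq ι] in
theorem A_injective {x y : Fin 7 → F} (h : D.A x = D.A y) : x = y := by
  have h1 : D.A (x - y) = 0 := by rw [map_sub, h, sub_self]
  exact sub_eq_zero.1 (D.li _ h1)

/-- The simple reflections. -/
def s (i : Fin 7) : Cfsg.isometryGroup F (⇑Q) := reflIso Q (D.a i) (by rw [D.hQ]; exact D.hc)

/-- The action of an isometry. -/
abbrev act (g : Cfsg.isometryGroup F (⇑Q)) (x : ι → F) : ι → F :=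
  ((g : Matrix.GeneralLinearGroup ι F) : Matrix ι ι F) *ᵥ x

omit [Fintype ι] [DecidableEq ι] in
theorem polar_A (i : Fin 7) (x : Fin 7 → F) : polar (⇑Q) (D.a i) (D.A x) = D.c * ∑ j, (C i j : F) * x j := by
  rw [← polarBilin_apply_apply, A_apply, map_sum, Finset.mul_sum]
  refine Finset.sum_congr rfl fun j _ => ?_
  rw [map_smul, polarBilin_apply_apply, D.hB, smul_eq_mul]
  ring

theorem s_A (i : Fin 7) (x : Fin 7 → F) : act (D.s i) (D.A x) = D.A ((S i).map (Int.castRingHom F) *ᵥ x) := by
  rw [act, s, coe_reflIso, reflectionMatrix_mulVec, S_mulVec, map_sub, map_smul, A_single, D.hQ, polar_A,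
    inv_mul_cancel_left₀ D.hc]

/-- A word in the reflections. -/
def w (l : List (Fin 7)) : Cfsg.isometryGroup F (⇑Q) := (l.map D.s).prod

theorem w_A (l : List (Fin 7)) (x : Fin 7 → F) : act (D.w l) (D.A x) = D.A (wF F l *ᵥ x) := by
  induction l with
  | nil =>
    rw [wF_nil, w, List.map_nil, List.prod_nil, Matrix.one_mulVec]
    exact Matrix.one_mulVec _
  | cons i l ih =>
    rw [wF_cons, w, List.map_cons, List.prod_cons, act, coe_mul_mulVec, ← Matrix.mulVec_mulVec, ← s_A, ← ih]
    rfl

theorem w_pow_A (l : List (Fin 7)) (k : ℕ) (x : Fin 7 → F) :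
    act (D.w l ^ k) (D.A x) = D.A (wF F l ^ k *ᵥ x) := by
  induction k generalizing x with
  | zero =>
    rw [pow_zero, pow_zero, Matrix.one_mulVec]
    exact Matrix.one_mulVec _
  | succ k ih =>
    rw [pow_succ, act, coe_mul_mulVec, pow_succ, ← Matrix.mulVec_mulVec, ← ih, ← w_A]

theorem s_conj {i j : Fin 7} (h : C i j = -1) : D.s i * D.s j * D.s i * (D.s i * D.s j)⁻¹ = D.s j := by
  have h1 : act (D.s i * D.s j) (D.a i) = D.a j := by
    rw [← D.A_single i, act, coe_mul_mulVec]
    change act (D.s i) (act (D.s j) (D.A _)) = _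
    rw [s_A, s_A, Matrix.mulVec_mulVec, ← Matrix.map_mul, ← D.A_single j]
    congr 1
    have h2 := S_conj i j h
    have h3 : (Int.castRingHom F) ∘ ((S i * S j) *ᵥ (Pi.single i 1)) = (Int.castRingHom F) ∘ (Pi.single j 1) := by
      rw [h2]
    rw [Function.comp_def, Function.comp_def] at h3
    funext k
    have h4 := congrFun h3 k
    rw [RingHom.map_mulVec] at h4
    rw [show ((Pi.single i 1 : Fin 7 → F)) = (⇑(Int.castRingHom F) ∘ (Pi.single i 1 : Fin 7 → ℤ)) from ?_, h4]
    · by_cases hk : k = j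
      · subst hk; simp
      · simp [Pi.single_eq_of_ne hk]
    · funext k'
      by_cases hk : k' = i
      · subst hk; simp
      · simp [Pi.single_eq_of_ne hk]
  have hv : Q (D.a i) ≠ 0 := by rw [D.hQ]; exact D.hc
  have hg : Q (act (D.s i * D.s j) (D.a i)) ≠ 0 := by rw [h1, D.hQ]; exact D.hc
  have h2 := conj_reflIso Q (D.a i) hv (D.s i * D.s j) hg
  refine h2.trans ?_
  apply Subtype.ext
  apply Units.ext
  rw [coe_reflIso]
  change reflectionMatrix (⇑Q) (act (D.s i * D.s j) (D.a i)) = reflectionMatrix (⇑Q) (D.a j)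
  rw [h1]

theorem of_s_adj {i j : Fin 7} (h : C i j = -1) : Abelianization.of (D.s i) = Abelianization.of (D.s j) := by
  have := congrArg Abelianization.of (D.s_conj h)
  rw [← this]
  simp only [map_mul, map_inv]
  rw [mul_comm (Abelianization.of (D.s i) * Abelianization.of (D.s j)) (Abelianization.of (D.s i)),
    mul_assoc, mul_inv_cancel, mul_one]

theorem of_s (i : Fin 7) : Abelianization.of (D.s i) = Abelianization.of (D.s 3) := by
  have h1 : Abelianization.of (D.s 2) = Abelianization.of (D.s 3) := D.of_s_adj (by decide)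
  have h2 : Abelianization.of (D.s 0) = Abelianization.of (D.s 2) := D.of_s_adj (by decide)
  have h3 : Abelianization.of (D.s 1) = Abelianization.of (D.s 3) := D.of_s_adj (by decide)
  have h4 : Abelianization.of (D.s 4) = Abelianization.of (D.s 3) := D.of_s_adj (by decide)
  have h5 : Abelianization.of (D.s 5) = Abelianization.of (D.s 4) := D.of_s_adj (by decide)
  have h6 : Abelianization.of (D.s 6) = Abelianization.of (D.s 5) := D.of_s_adj (by decide)
  fin_cases i
  · exact h2.trans h1
  · exact h3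
  · exact h1
  · rfl
  · exact h4
  · exact h5.trans h4
  · exact h6.trans (h5.trans h4)

theorem of_w (l : List (Fin 7)) : Abelianization.of (D.w l) = Abelianization.of (D.s 3) ^ l.length := by
  induction l with
  | nil => rw [w, List.map_nil, List.prod_nil, map_one, List.length_nil, pow_zero]
  | cons i l ih =>
    rw [w] at ih
    rw [w, List.map_cons, List.prod_cons, map_mul, ih, of_s, List.length_cons, pow_succ']

theorem w_mem {l : List (Fin 7)} (hl : Even l.length) : D.w l ∈ Cfsg.Omega F (⇑Q) := by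
  have h1 : Abelianization.of (D.w l) = 1 := by
    obtain ⟨k, hk⟩ := hl
    rw [of_w, hk, ← two_mul, pow_mul, pow_two, ← map_mul]
    have : D.s 3 * D.s 3 = 1 := reflIso_mul_self Q _ _
    rw [this, map_one, one_pow]
  exact (QuotientGroup.eq_one_iff _).1 h1

/-- The order of the word matrix over `F` divides the order of the image of the word in `POmega`. -/
theorem dvd_orderOf (hQ : (polarBilin Q).Nondegenerate) (hn : 3 ≤ Fintype.card ι)
    (hs : ∃ u : ι → F, u ≠ 0 ∧ Q u = 0) {l : List (Fin 7)} (hl : Even l.length) :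
    orderOf (wF F l) ∣ orderOf (QuotientGroup.mk (⟨D.w l, D.w_mem hl⟩ : Cfsg.Omega F (⇑Q)) : Cfsg.POmega F (⇑Q)) := by
  set y : Cfsg.Omega F (⇑Q) := ⟨D.w l, D.w_mem hl⟩ with hy
  apply orderOf_dvd_of_pow_eq_one
  set k := orderOf (QuotientGroup.mk y : Cfsg.POmega F (⇑Q)) with hk
  have h1 : (QuotientGroup.mk (y ^ k) : Cfsg.POmega F (⇑Q)) = 1 := by
    rw [QuotientGroup.mk_pow]
    exact pow_orderOf_eq_one _
  have h2 : y ^ k ∈ Subgroup.center (Cfsg.Omega F (⇑Q)) := (QuotientGroup.eq_one_iff _).1 h1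
  have h3 := (Cfsg.Agent.LieClassical.OrthCenter.mem_center_omega_iff hQ hn hs _).1 h2
  have h4 : ((y ^ k : Cfsg.Omega F (⇑Q)) : Cfsg.isometryGroup F (⇑Q)) = D.w l ^ k := rfl
  have key : ∀ x : Fin 7 → F, act (D.w l ^ k) (D.A x) = D.A (wF F l ^ k *ᵥ x) := D.w_pow_A l k
  rw [h4] at h3
  rcases h3 with h3 | h3
  · apply Matrix.mulVec_injective
    funext x
    apply D.A_injective
    rw [← key, act, h3, Matrix.one_mulVec, Matrix.one_mulVec]
  · have h5 : wF F l ^ k = -1 := by
      apply Matrix.mulVec_injective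
      funext x
      apply D.A_injective
      rw [← key, act, h3, Matrix.neg_mulVec, Matrix.neg_mulVec, Matrix.one_mulVec, Matrix.one_mulVec, map_neg]
    have h6 : (wF F l ^ k).det = 1 := by
      rw [Matrix.det_pow, det_wF, hl.neg_one_pow, one_pow]
    rw [h5, Matrix.det_neg, Matrix.det_one, mul_one, Fintype.card_fin] at h6
    rw [h5]
    have h7 : (-1 : F) = 1 := by
      rw [show (-1 : F) ^ 7 = -1 by norm_num] at h6
      exact h6
    ext i j
    rw [Matrix.neg_apply]
    by_cases hij : i = j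
    · subst hij; simp [h7]
    · simp [Matrix.one_apply_ne hij]

end Frame

/-- Nontriviality of an integer matrix over `F`. -/
theorem map_ne_one {M : Matrix (Fin 7) (Fin 7) ℤ} (h : ∃ i j, M i j - (1 : Matrix (Fin 7) (Fin 7) ℤ) i j = 1 ∨
    M i j - (1 : Matrix (Fin 7) (Fin 7) ℤ) i j = -1) : (Int.castRingHom F).mapMatrix M ≠ 1 := by
  intro h1
  obtain ⟨i, j, h⟩ := h
  have h2 : (Int.castRingHom F).mapMatrix (M - 1) = 0 := by rw [map_sub, map_one, h1, sub_self]
  have h3 : (Int.castRingHom F) ((M - 1) i j) = 0 := by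
    have := congrFun (congrFun h2 i) j
    exact this
  rw [Matrix.sub_apply] at h3
  rcases h with h | h <;> rw [h] at h3 <;> simp at h3

theorem orderOf_wF {l : List (Fin 7)} {M : Matrix (Fin 7) (Fin 7) ℤ} (hl : wm l = M) {n : ℕ} (hn : 0 < n)
    (h1 : M ^ n = 1) (h2 : ∀ p : ℕ, p.Prime → p ∣ n → ∃ i j,
      (M ^ (n / p)) i j - (1 : Matrix (Fin 7) (Fin 7) ℤ) i j = 1 ∨
      (M ^ (n / p)) i j - (1 : Matrix (Fin 7) (Fin 7) ℤ) i j = -1) : orderOf (wF F l) = n := by
  refine orderOf_eq_of_pow_and_pow_div_prime hn ?_ ?_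
  · rw [wF, hl, ← map_pow, h1, map_one]
  · intro p hp hpn
    rw [wF, hl, ← map_pow]
    exact map_ne_one (h2 p hp hpn)

end Cfsg.Agent.H695.ESeven
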