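import Cfsg.Agent.H695.Row49
import Cfsg.Agent.H714.AltFull

/-!
# The alternating groups for S4849 (helper695)
-/

set_option autoImplicit false
set_option linter.dupNamespace false

namespace Cfsg.Agent.H695.AltRow

open Equiv Equiv.Perm Cfsg Cfsg.Agent.H713 Cfsg.Agent.H714 Cfsg.Agent.H714.AltMore Cfsg.Agent.H714.AltRow
  Cfsg.Agent.H621.AltChar

/-- Seven-cycles in degree nine. -/
theorem exists_nine : ∃ x : ↥(alternatingGroup (Fin 9)), VZ ↥(alternatingGroup (Fin 9)) x ∧ orderOf x = 7 := by
  obtain ⟨x, hx⟩ := (exists_with_cycleType_iff (α := Fin 9) (m := {7})).2 ⟨by simp, by simp⟩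
  have hxs : x ∈ alternatingGroup (Fin 9) := by
    rw [mem_alternatingGroup, sign_of_cycleType, hx]
    decide
  have ho : orderOf (⟨x, hxs⟩ : ↥(alternatingGroup (Fin 9))) = 7 := by
    rw [Subgroup.orderOf_mk, ← lcm_cycleType, hx]
    decide
  refine ⟨⟨x, hxs⟩, ?_, ho⟩
  have h4 := four_pre (n := 9) (by omega)
  refine ⟨⟨_, irr_b _ (Fin 9) (by simp) h4⟩, fun α => ?_⟩
  set y := α ⟨x, hxs⟩ with hy
  have hyc : (y : Perm (Fin 9)).cycleType = {7} := by rw [hy, cycleType_aut (by norm_num), hx]
  have hyo : y ^ 7 = 1 := by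
    rw [hy, ← map_pow, ← ho, pow_orderOf_eq_one, map_one]
  have h5 : nf (Fin 9) y = 2 := by
    rw [nf_eq, card_fixedBy_alt, hyc]
    decide
  have h6 : nu (Fin 9) y = 0 := by
    unfold nu
    rw [Nat.card_eq_zero]
    left
    refine ⟨fun ⟨a, ha1, ha2⟩ => ha1 ?_⟩
    have h8 : y ^ 7 • a = y • (y * y) • (y * y) • (y * y) • a := by
      simp only [smul_smul]
      congr 1
    have e1 : (y * y) • a = a := by
      rw [mul_smul]; exact ha2
    rw [e1, e1, e1, hyo, one_smul] at h8
    exact h8.symm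
  show ((nf (Fin 9) y : ℂ) ^ 2 - 3 * nf (Fin 9) y + 2 - nu (Fin 9) y) / 2 = 0
  rw [h5, h6]
  norm_num

theorem primeFactors_ne_of_dvd {n r q : ℕ} (hr : r.Prime) (hd : r ∣ n) (h0 : n ≠ 0) (h : r ≠ q) :
    n.primeFactors ≠ {q} := by
  intro he
  have h1 : r ∈ n.primeFactors := Nat.mem_primeFactors.2 ⟨hr, hd, h0⟩
  rw [he, Finset.mem_singleton] at h1
  exact h h1

/-- a `VZ` element of odd order divisible by a prime at least five -/
theorem exists_odd {n : ℕ} (hn : 7 ≤ n) : ∃ x : ↥(alternatingGroup (Fin n)), VZ ↥(alternatingGroup (Fin n)) x ∧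
    ¬ 2 ∣ orderOf x ∧ (orderOf x).primeFactors ≠ {3} := by
  have key : ∀ m : Multiset ℕ, (m.sum = n - 1 ∨ m.sum = n ∧ 2 ∉ m) → (∀ a ∈ m, 2 ≤ a) →
      Even (m.sum + Multiset.card m) → (∀ a ∈ m, ¬ 2 ∣ a) → (∃ a ∈ m, ∃ r : ℕ, r.Prime ∧ r ≠ 3 ∧ r ∣ a) →
      ∃ x : ↥(alternatingGroup (Fin n)), VZ ↥(alternatingGroup (Fin n)) x ∧
        ¬ 2 ∣ orderOf x ∧ (orderOf x).primeFactors ≠ {3} := by
    intro m h1 h2 h3 h4 ⟨a, ha, r, hr, hr3, hra⟩
    obtain ⟨x, hx, ho, -⟩ := exists_vz_type hn m h1 h2 h3
    refine ⟨x, hx, ?_, ?_⟩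
    · rw [ho]
      intro h5
      have h6 : ∀ s : Multiset ℕ, 2 ∣ s.lcm → ∃ a ∈ s, 2 ∣ a := by
        intro s
        induction s using Multiset.induction with
        | empty => intro h; simp at h
        | cons a s ih =>
          intro h
          rw [Multiset.lcm_cons] at h
          have h7 : 2 ∣ a * s.lcm := h.trans (Nat.lcm_dvd_mul a s.lcm)
          rcases Nat.prime_two.dvd_mul.1 h7 with h8 | h8
          · exact ⟨a, Multiset.mem_cons_self a s, h8⟩
          · obtain ⟨b, hb, hb2⟩ := ih h8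
            exact ⟨b, Multiset.mem_cons_of_mem hb, hb2⟩
      obtain ⟨b, hb, hb2⟩ := h6 m h5
      exact h4 b hb hb2
    · refine primeFactors_ne_of_dvd hr ?_ (orderOf_pos x).ne' hr3
      rw [ho]
      exact hra.trans (Multiset.dvd_lcm ha)
  -- `k` the odd one of `n`, `n - 1`
  obtain ⟨k, hk, hkn⟩ : ∃ k, ¬ 2 ∣ k ∧ (k = n ∨ k = n - 1) := by
    rcases Nat.even_or_odd n with h | h
    · refine ⟨n - 1, ?_, Or.inr rfl⟩
      obtain ⟨c, rfl⟩ := h
      omega
    · refine ⟨n, ?_, Or.inl rfl⟩
      obtain ⟨c, rfl⟩ := h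
      omega
  by_cases h3 : ∃ a, k = 3 ^ a
  · obtain ⟨a, ha⟩ := h3
    have hk9 : 9 ≤ k := by
      have : 7 ≤ k ∨ k = n - 1 := by omega
      rcases Nat.lt_or_ge a 2 with h | h
      · interval_cases a <;> omega
      · rw [ha]
        calc 9 = 3 ^ 2 := by norm_num
          _ ≤ 3 ^ a := Nat.pow_le_pow_right (by norm_num) h
    rcases hkn with h | h
    · -- `n = 3 ^ a`
      refine key {5, n - 6} (Or.inl ?_) ?_ ?_ ?_ ⟨5, by simp, 5, by norm_num, by norm_num, dvd_rfl⟩
      · simp only [Multiset.insert_eq_cons, Multiset.sum_cons, Multiset.sum_singleton]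
        omega
      · simp only [Multiset.insert_eq_cons, Multiset.mem_cons, Multiset.mem_singleton]
        omega
      · simp only [Multiset.insert_eq_cons, Multiset.sum_cons, Multiset.sum_singleton, Multiset.card_cons,
          Multiset.card_singleton]
        rw [Nat.even_iff]
        omega
      · simp only [Multiset.insert_eq_cons, Multiset.mem_cons, Multiset.mem_singleton]
        omega
    · refine key {5, n - 5} (Or.inr ⟨?_, ?_⟩) ?_ ?_ ?_ ⟨5, by simp, 5, by norm_num, by norm_num, dvd_rfl⟩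
      · simp only [Multiset.insert_eq_cons, Multiset.sum_cons, Multiset.sum_singleton]
        omega
      · simp only [Multiset.insert_eq_cons, Multiset.mem_cons, Multiset.mem_singleton]
        omega
      · simp only [Multiset.insert_eq_cons, Multiset.mem_cons, Multiset.mem_singleton]
        omega
      · simp only [Multiset.insert_eq_cons, Multiset.sum_cons, Multiset.sum_singleton, Multiset.card_cons,
          Multiset.card_singleton]
        rw [Nat.even_iff]
        omega
      · simp only [Multiset.insert_eq_cons, Multiset.mem_cons, Multiset.mem_singleton]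
        omega
  · obtain ⟨r, hr, hr3, hrk⟩ := H620.exists_prime_ne (n := k) (r := 3) (by omega) h3
    refine key {k} ?_ ?_ ?_ ?_ ⟨k, by simp, r, hr, hr3, hrk⟩
    · rw [Multiset.sum_singleton, Multiset.mem_singleton]
      omega
    · simp only [Multiset.mem_singleton]
      omega
    · rw [Multiset.sum_singleton, Multiset.card_singleton, Nat.even_iff]
      omega
    · simp only [Multiset.mem_singleton]
      omega

/-- a `VZ` element of order prime to three that is not a `2`-element -/
theorem exists_three' {n : ℕ} (hn : 7 ≤ n) : ∃ x : ↥(alternatingGroup (Fin n)), VZ ↥(alternatingGroup (Fin n)) x ∧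
    ¬ 3 ∣ orderOf x ∧ (orderOf x).primeFactors ≠ {2} := by
  have key : ∀ m : Multiset ℕ, (m.sum = n - 1 ∨ m.sum = n ∧ 2 ∉ m) → (∀ a ∈ m, 2 ≤ a) →
      Even (m.sum + Multiset.card m) → (∀ a ∈ m, ¬ 3 ∣ a) → (∃ a ∈ m, ∃ r : ℕ, r.Prime ∧ r ≠ 2 ∧ r ∣ a) →
      ∃ x : ↥(alternatingGroup (Fin n)), VZ ↥(alternatingGroup (Fin n)) x ∧
        ¬ 3 ∣ orderOf x ∧ (orderOf x).primeFactors ≠ {2} := by
    intro m h1 h2 h3 h4 ⟨a, ha, r, hr, hr3, hra⟩
    obtain ⟨x, hx, ho, -⟩ := exists_vz_type hn m h1 h2 h3
    refine ⟨x, hx, ?_, ?_⟩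
    · rw [ho]
      intro h5
      have h6 : ∀ s : Multiset ℕ, 3 ∣ s.lcm → ∃ a ∈ s, 3 ∣ a := by
        intro s
        induction s using Multiset.induction with
        | empty => intro h; simp at h
        | cons a s ih =>
          intro h
          rw [Multiset.lcm_cons] at h
          have h7 : 3 ∣ a * s.lcm := h.trans (Nat.lcm_dvd_mul a s.lcm)
          rcases Nat.prime_three.dvd_mul.1 h7 with h8 | h8
          · exact ⟨a, Multiset.mem_cons_self a s, h8⟩
          · obtain ⟨b, hb, hb2⟩ := ih h8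
            exact ⟨b, Multiset.mem_cons_of_mem hb, hb2⟩
      obtain ⟨b, hb, hb2⟩ := h6 m h5
      exact h4 b hb hb2
    · refine primeFactors_ne_of_dvd hr ?_ (orderOf_pos x).ne' hr3
      rw [ho]
      exact hra.trans (Multiset.dvd_lcm ha)
  obtain ⟨k, hk, hkn⟩ : ∃ k, ¬ 2 ∣ k ∧ (k = n ∨ k = n - 1) := by
    rcases Nat.even_or_odd n with h | h
    · refine ⟨n - 1, ?_, Or.inr rfl⟩
      obtain ⟨c, rfl⟩ := h
      omega
    · refine ⟨n, ?_, Or.inl rfl⟩
      obtain ⟨c, rfl⟩ := h
      omega
  by_cases h3 : 3 ∣ k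
  · have hk2 : ∃ c, n = 2 * c ∨ n = 2 * c + 1 := ⟨n / 2, by omega⟩
    -- add an even number of transpositions
    have hrep : ∀ (s : Multiset ℕ) (c : ℕ), (∀ a ∈ s, 2 ≤ a ∧ ¬ 3 ∣ a) → 5 ∈ s →
        s.sum + 2 * c = n - 1 → Even (n - 1 + (Multiset.card s + c)) →
        ∃ x : ↥(alternatingGroup (Fin n)), VZ ↥(alternatingGroup (Fin n)) x ∧
          ¬ 3 ∣ orderOf x ∧ (orderOf x).primeFactors ≠ {2} := by
      intro s c hs h5 hsum hev
      refine key (s + Multiset.replicate c 2) (Or.inl ?_) ?_ ?_ ?_ ⟨5, ?_, 5, by norm_num, by norm_num, dvd_rfl⟩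
      · rw [Multiset.sum_add, Multiset.sum_replicate, smul_eq_mul]
        omega
      · intro a ha
        rcases Multiset.mem_add.1 ha with h | h
        · exact (hs a h).1
        · rw [Multiset.eq_of_mem_replicate h]
      · rw [Multiset.sum_add, Multiset.sum_replicate, smul_eq_mul, Multiset.card_add,
          Multiset.card_replicate, mul_comm c 2, hsum]
        exact hev
      · intro a ha
        rcases Multiset.mem_add.1 ha with h | h
        · exact (hs a h).2
        · rw [Multiset.eq_of_mem_replicate h]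
          decide
      · exact Multiset.mem_add.2 (Or.inl h5)
    by_cases h9 : n = 9
    · subst h9
      obtain ⟨x, hx, ho⟩ := exists_nine
      refine ⟨x, hx, by rw [ho]; decide, ?_⟩
      rw [ho]
      exact primeFactors_ne_of_dvd (r := 7) (by norm_num) dvd_rfl (by norm_num) (by norm_num)
    rcases hkn with h | h
    · -- `n` odd, divisible by three
      have hn15 : 15 ≤ n := by omega
      by_cases h4 : 4 ∣ n - 11
      · refine hrep {5, 5} ((n - 11) / 2) ?_ (by simp) ?_ ?_
        · simp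
        · simp only [Multiset.insert_eq_cons, Multiset.sum_cons, Multiset.sum_singleton]
          omega
        · simp only [Multiset.insert_eq_cons, Multiset.card_cons, Multiset.card_singleton, Nat.even_iff]
          omega
      · refine hrep {5, 5, 4} ((n - 15) / 2) ?_ (by simp) ?_ ?_
        · simp
        · simp only [Multiset.insert_eq_cons, Multiset.sum_cons, Multiset.sum_singleton]
          omega
        · simp only [Multiset.insert_eq_cons, Multiset.card_cons, Multiset.card_singleton, Nat.even_iff]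
          omega
    · have hn10 : 10 ≤ n := by omega
      by_cases h4 : 4 ∣ n - 6
      · refine hrep {5} ((n - 6) / 2) ?_ (by simp) ?_ ?_
        · simp
        · simp only [Multiset.sum_singleton]
          omega
        · simp only [Multiset.card_singleton, Nat.even_iff]
          omega
      · refine hrep {5, 4} ((n - 10) / 2) ?_ (by simp) ?_ ?_
        · simp
        · simp only [Multiset.insert_eq_cons, Multiset.sum_cons, Multiset.sum_singleton]
          omega
        · simp only [Multiset.insert_eq_cons, Multiset.card_cons, Multiset.card_singleton, Nat.even_iff]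
          omega
  · obtain ⟨r, hr, hrk⟩ := Nat.exists_prime_and_dvd (n := k) (by omega)
    refine key {k} ?_ ?_ ?_ ?_ ⟨k, by simp, r, hr, ?_, hrk⟩
    · rw [Multiset.sum_singleton, Multiset.mem_singleton]
      omega
    · simp only [Multiset.mem_singleton]
      omega
    · rw [Multiset.sum_singleton, Multiset.card_singleton, Nat.even_iff]
      omega
    · simp only [Multiset.mem_singleton]
      rintro a rfl
      exact h3
    · rintro rfl
      exact hk hrk

/-- **The row of the alternating groups.** -/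
theorem row49_alt {n : ℕ} (hn : 5 ≤ n) : Row49 ↥(alternatingGroup (Fin n)) := by
  rcases Nat.lt_or_ge n 7 with h | h
  · apply Tri.row49
    obtain ⟨x, y, z, hx, hy, hz, ⟨j, hj, hxj⟩, hy3, r, hr, hr5, hrz⟩ := AltFull.exists_three hn
    obtain ⟨w, hw⟩ := AltFull.exists_order_five n hn
    have hwv : VZ _ w := by
      obtain rfl | rfl : n = 5 ∨ n = 6 := by omega
      · apply AltFull.vz_five
        rintro rfl
        simp at hw
      · exact AltFull.vz_six (by omega)
    refine ⟨x, y, w, hx, hy, hwv, ?_, ?_, ?_⟩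
    · rw [hxj, hy3]
      exact Nat.Coprime.pow_left _ (by decide)
    · rw [hxj, hw]
      exact Nat.Coprime.pow_left _ (by decide)
    · rw [hy3, hw]
      decide
  · obtain ⟨x, y, z, hx, hy, hz, ⟨j, hj, hxj⟩, hy3, -⟩ := AltFull.exists_three hn
    have hx2 : (orderOf x).primeFactors = {2} := by
      rw [hxj, Nat.primeFactors_pow _ hj.ne', Nat.prime_two.primeFactors]
    have hy2 : (orderOf y).primeFactors = {3} := by
      rw [hy3, Nat.prime_three.primeFactors]
    intro p hp
    by_cases h2 : p = 2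
    · subst h2
      obtain ⟨w, hw, hw2, hw3⟩ := exists_odd h
      refine ⟨w, y, hw, hy, hw2, ?_, ?_⟩
      · rw [hy3]; decide
      · rw [hy2]; exact hw3
    by_cases h3 : p = 3
    · subst h3
      obtain ⟨w, hw, hw2, hw3⟩ := exists_three' h
      refine ⟨w, x, hw, hx, hw2, ?_, ?_⟩
      · rw [hxj]
        intro h4
        exact absurd (Nat.prime_three.dvd_of_dvd_pow h4) (by decide)
      · rw [hx2]; exact hw3
    · refine ⟨x, y, hx, hy, ?_, ?_, ?_⟩
      · rw [hxj]
        intro h4
        exact h2 ((Nat.prime_dvd_prime_iff_eq hp Nat.prime_two).1 (hp.dvd_of_dvd_pow h4))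
      · rw [hy3]
        intro h4
        exact h3 ((Nat.prime_dvd_prime_iff_eq hp Nat.prime_three).1 h4)
      · rw [hx2, hy2]
        decide

end Cfsg.Agent.H695.AltRow
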