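import Cfsg.Agent.H620.RowClass
import Cfsg.Agent.H620.RowSz
import Cfsg.Agent.H620.RowRee
import Cfsg.Agent.H695.Row49
import Cfsg.Agent.H695.AltRow

/-!
# `Row49` for `PSL₂(q)`, `PSL₃(2)`, `PSL₃(4)`, the Suzuki groups and the small Ree groups (helper695)
-/

set_option autoImplicit false

namespace Cfsg.Agent.H695.RowFam

open Cfsg Cfsg.Agent.H620 Cfsg.Agent.H713 Cfsg.Agent.H620.RowClass Cfsg.Agent.H620.RowSz Cfsg.Agent.H620.RowRee

/-- `Row49` from nontrivial `VZ` elements of order prime to two given primes. -/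
theorem row49_of_coprime {S : Type*} [Group S] [Finite S] (h : ∀ l m : ℕ, l.Prime → m.Prime →
    ∃ x : S, VZ S x ∧ x ≠ 1 ∧ Nat.Coprime l (orderOf x) ∧ Nat.Coprime m (orderOf x)) : Row49 S := by
  intro p hp
  have key : ∀ {r n : ℕ}, r.Prime → Nat.Coprime r n → ¬ r ∣ n := fun hr hc =>
    (Nat.Prime.coprime_iff_not_dvd hr).1 hc
  obtain ⟨x, hx, hx1, h1, -⟩ := h p p hp hp
  obtain ⟨l, hl, hlx⟩ := Nat.exists_prime_and_dvd (n := orderOf x) (fun h => hx1 (orderOf_eq_one_iff.1 h))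
  obtain ⟨y, hy, -, h2, h3⟩ := h p l hp hl
  refine ⟨x, y, hx, hy, key hp h1, key hp h2, fun he => ?_⟩
  have h4 : l ∈ (orderOf x).primeFactors := Nat.mem_primeFactors.2 ⟨hl, hlx, (orderOf_pos x).ne'⟩
  rw [he] at h4
  exact key hl h3 (Nat.dvd_of_mem_primeFactors h4)

theorem tri_psl_two_even {F : Type*} [Field F] [Fintype F] [CharP F 2] (h4 : 4 ≤ Fintype.card F) :
    Tri (Matrix.ProjectiveSpecialLinearGroup (Fin 2) F) := by
  have e : Matrix.ProjectiveSpecialLinearGroup (Fin 2) F ≃* Matrix.SpecialLinearGroup (Fin 2) F :=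
    (QuotientGroup.quotientMulEquivOfEq (S4812.center_eq_bot F)).trans QuotientGroup.quotientBot
  refine Tri.mulEquiv ?_ e.symm
  have hcard : Nat.card (Matrix.SpecialLinearGroup (Fin 2) F) =
      Fintype.card F * (Fintype.card F ^ 2 - 1) := ClassicalGeometry.PSL2Basic.card_SL2 F
  have hfac : Nat.card (Matrix.SpecialLinearGroup (Fin 2) F) =
      (Fintype.card F - 1) * (Fintype.card F * (Fintype.card F + 1)) := by
    rw [hcard, ← one_pow 2, Nat.sq_sub_sq]
    ring_nf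
  have heven : 2 ∣ Fintype.card F := by
    have h8 : (Fintype.card F : F) = 0 := FiniteField.cast_card_eq_zero F
    exact (CharP.cast_eq_zero_iff F 2 _).1 h8
  obtain ⟨l, hl, hlq⟩ := Nat.exists_prime_and_dvd (show Fintype.card F - 1 ≠ 1 by omega)
  obtain ⟨m, hm, hmq⟩ := Nat.exists_prime_and_dvd (show Fintype.card F + 1 ≠ 1 by omega)
  have hl2 : l ≠ 2 := by rintro rfl; omega
  have hm2 : m ≠ 2 := by rintro rfl; omega
  have hlm : l ≠ m := by
    rintro rfl
    have h6 : l ∣ 2 := by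
      have := (Nat.dvd_sub hmq hlq)
      have h7 : Fintype.card F + 1 - (Fintype.card F - 1) = 2 := by omega
      rwa [h7] at this
    exact hl2 ((Nat.prime_dvd_prime_iff_eq hl Nat.prime_two).1 h6)
  have d1 : l ∣ Nat.card (Matrix.SpecialLinearGroup (Fin 2) F) := by
    rw [hfac]; exact dvd_mul_of_dvd_left hlq _
  have d2 : 2 ∣ Nat.card (Matrix.SpecialLinearGroup (Fin 2) F) := by
    rw [hfac]; exact dvd_mul_of_dvd_right (dvd_mul_of_dvd_left heven _) _
  have d3 : m ∣ Nat.card (Matrix.SpecialLinearGroup (Fin 2) F) := by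
    rw [hfac]; exact dvd_mul_of_dvd_right (dvd_mul_of_dvd_right hmq _) _
  exact tri_of_kill hl Nat.prime_two hm hl2 hlm hm2.symm
    (kill_of_degree h4 (MulEquiv.refl _) (Or.inl rfl) hl hlq)
    (kill_of_degree h4 (MulEquiv.refl _) (Or.inr (Or.inl rfl)) Nat.prime_two heven)
    (kill_of_degree h4 (MulEquiv.refl _) (Or.inr (Or.inr rfl)) hm hmq) d1 d2 d3

/-- `PSL₂(q)`, `q ≥ 4`. -/
theorem row49_psl_two {F : Type} [Field F] [Fintype F] (h4 : 4 ≤ Fintype.card F) :
    Row49 (Matrix.ProjectiveSpecialLinearGroup (Fin 2) F) := by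
  obtain ⟨p, hp, hc⟩ := OddHalf.Known.char_cases (F := F)
  by_cases h2 : p = 2
  · subst h2
    exact (tri_psl_two_even h4).row49
  · have hodd : Odd (Fintype.card F) := by
      have : Fact p.Prime := ⟨hp⟩
      obtain ⟨n, -, hn⟩ := FiniteField.card F p
      rw [hn]
      exact (hp.odd_of_ne_two h2).pow
    by_cases h5 : Fintype.card F = 5
    · obtain ⟨e⟩ := Cfsg.Agent.S0253.result (F := F) h5
      exact (AltRow.row49_alt (n := 5) le_rfl).mulEquiv e.symm
    · have h7 : 7 ≤ Fintype.card F := by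
        obtain ⟨k, hk⟩ := hodd
        omega
      exact row49_of_coprime fun l m hl hm => H714.PslMore.exists_vz_coprime hodd h7 hl hm

theorem row49_psl_three_two {F : Type} [Field F] [Fintype F] (hF : Fintype.card F = 2) :
    Row49 (Matrix.ProjectiveSpecialLinearGroup (Fin 3) F) := by
  have : Fact (Nat.Prime 7) := ⟨by norm_num⟩
  obtain ⟨e⟩ := Cfsg.Agent.S0255.result (F := ZMod 7) (K := F) (ZMod.card 7) hF
  exact (row49_psl_two (F := ZMod 7) (by rw [ZMod.card]; norm_num)).mulEquiv e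

theorem tri_psl_three_four {K : Type*} [Group K] [Finite K] [IsSimpleGroup K]
    (hK : IsLieTypeChar 2 K) {F : Type} [Field F] [Fintype F] (hF : Fintype.card F = 4)
    (e : K ≃* Matrix.ProjectiveSpecialLinearGroup (Fin 3) F) : Tri K := by
  have k2 : Kill K 2 := kill_of_lie Nat.prime_two hK
  have k7 : Kill K 7 := by
    refine Kill.mulEquiv ?_ e.symm
    refine kill_psl le_rfl (t := 7) (e := 3) (by norm_num) ⟨by rw [hF]; norm_num, ?_⟩ (by norm_num)
      (by norm_num)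
    intro i hi0 hi
    rw [hF]
    interval_cases i <;> norm_num
  have hcard : Nat.card K = 20160 := by
    rw [Nat.card_congr e.toEquiv, CTwoTab.card_PSL_three F hF]
  have f2 : Fact (Nat.Prime 2) := ⟨Nat.prime_two⟩
  have f5 : Fact (Nat.Prime 5) := ⟨by norm_num⟩
  have f7 : Fact (Nat.Prime 7) := ⟨by norm_num⟩
  obtain ⟨x2, hx2⟩ := exists_prime_orderOf_dvd_card' (G := K) 2 (by rw [hcard]; norm_num)
  obtain ⟨x5, hx5⟩ := exists_prime_orderOf_dvd_card' (G := K) 5 (by rw [hcard]; norm_num)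
  obtain ⟨x7, hx7⟩ := exists_prime_orderOf_dvd_card' (G := K) 7 (by rw [hcard]; norm_num)
  have v5 : VZ K x5 := by
    have h1 : VZ _ (e x5) := H690.LThreeFour.vz_five hF (by rw [MulEquiv.orderOf_eq, hx5])
    have h2 := H713.VZ.mulEquiv e.symm h1
    rwa [e.symm_apply_apply] at h2
  exact ⟨x2, x5, x7, k2.vz (x := x2) (by rw [hx2]), v5, k7.vz (x := x7) (by rw [hx7]),
    by rw [hx2, hx5]; norm_num, by rw [hx2, hx7]; norm_num, by rw [hx5, hx7]; norm_num⟩

/-- Three killed primes. -/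
theorem tri_of_kill3 {K : Type*} [Group K] [Finite K] {p : ℕ} (hp : p.Prime) (hpd : p ∣ Nat.card K)
    (hpk : Kill K p) (h : Kill3 K p) : Tri K := by
  obtain ⟨l, k, hl, hk, hlk, hlp, hkp, hld, hkd, h1, h2⟩ := h
  exact tri_of_kill hp hl hk hlp.symm hkp.symm hlk hpk h1 h2 hpd hld hkd

theorem tri_suzuki {K : Type*} [Group K] [Finite K] [IsSimpleGroup K] (h : Cfsg.Lie.IsoSuzuki K) : Tri K := by
  have hL : IsLieTypeChar 2 K := by
    unfold IsLieTypeChar
    tauto
  refine tri_of_kill3 Nat.prime_two ?_ (kill_of_lie Nat.prime_two hL) (kill3_suzuki h)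
  obtain ⟨F, i1, i2, m, hm, hF, ⟨e⟩⟩ := h
  rw [Nat.card_congr e.toEquiv, (Cfsg.Agent.S1163.result hm hF).1, mul_assoc]
  exact dvd_mul_of_dvd_left (dvd_pow (dvd_pow_self 2 (by omega)) (by norm_num)) _

theorem tri_ree {K : Type*} [Group K] [Finite K] [IsSimpleGroup K] (h : Cfsg.Lie.IsoRee K) : Tri K := by
  have hL : IsLieTypeChar 3 K := by
    unfold IsLieTypeChar
    tauto
  refine tri_of_kill3 Nat.prime_three ?_ (kill_of_lie Nat.prime_three hL) (kill3_ree h)
  obtain ⟨F, i1, i2, m, hm, hF, ⟨e⟩⟩ := h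
  rw [Nat.card_congr e.toEquiv, Cfsg.Agent.LieRecognition.ReeFinal.card hF, mul_assoc]
  exact dvd_mul_of_dvd_left (dvd_pow (dvd_pow_self 3 (by omega)) (by norm_num)) _

end Cfsg.Agent.H695.RowFam
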