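import Cfsg.Agent.H695.AltRow
import Cfsg.Agent.H695.Lie.All
import Cfsg.Agent.H695.Spor.RowA
import Cfsg.Agent.H695.Spor.RowB
import Cfsg.Agent.H695.Spor.RowJ3
import Cfsg.Agent.H704.Spor49.CoOne
import Cfsg.Agent.H704.Spor49.Conway
import Cfsg.Agent.H704.Spor49.Harada
import Cfsg.Agent.H704.Spor49.Held
import Cfsg.Agent.H704.Spor49.JankoTwo
import Cfsg.Agent.H704.Spor49.ONan
import Cfsg.Agent.H704.Spor49.Thompson
import Cfsg.Agent.H704.Spor49.TitsRow
import Cfsg.Agent.H515.LyRow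
import Cfsg.Agent.OddHalf.Known

/-!
# All the rows of S4849 (helper695)
-/

set_option autoImplicit false

open Cfsg

namespace Cfsg.Agent.H695.RowsAll

open Cfsg.Agent.H695

universe u

variable {K : Type u} [Group K] [Finite K]

theorem row_spor (hS : Cfsg.Agent.H690.Spor.Trans.AllKnown) (h : IsSporadicGroup K) : Row49 K := by
  rcases h with h | h | h | h | h | h | h | h | h | h | h | h | h | h | h | h | h | h | h | h | h |
    h | h | h | h | h
  · exact (Spor.RowA.tri_m11 h).row49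
  · exact (Spor.RowA.tri_m12 h).row49
  · exact (Spor.RowA.tri_m22 h).row49
  · exact (Spor.RowA.tri_m23 h).row49
  · exact (Spor.RowA.tri_m24 h).row49
  · exact (Spor.RowA.tri_j1 h).row49
  · exact (Cfsg.Agent.H704.Spor49.JankoTwo.tri_j2 h).row49
  · exact (Spor.RowJ3.tri_j3 h).row49
  · exact (Spor.RowB.tri_j4 h).row49
  · exact (Cfsg.Agent.H704.Spor49.tri_co1 h).row49
  · exact (Cfsg.Agent.H704.Spor49.tri_co2 h).row49
  · exact (Cfsg.Agent.H704.Spor49.tri_co3 h).row49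
  · exact (Spor.RowB.tri_mcl h).row49
  · exact (Spor.RowB.tri_hs h).row49
  · exact (Spor.RowB.tri_suz h).row49
  · exact (Cfsg.Agent.H704.Spor49.Held.tri_he h).row49
  · exact (Spor.RowB.tri_ru h).row49
  · exact Cfsg.Agent.H704.Spor49.row49_on h
  · exact Cfsg.Agent.H515.LyRow.row49_ly h
  · exact (Spor.RowB.tri_fi22 h).row49
  · exact (Spor.RowB.tri_fi23 h).row49
  · exact (Spor.RowB.tri_fi24 h).row49
  · exact Cfsg.Agent.H704.Spor49.Harada.row49_hn h
  · exact (Cfsg.Agent.H704.Spor49.tri_th h).row49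
  · exact (Spor.RowB.tri_b hS h).row49
  · exact (Spor.RowB.tri_m h).row49

omit [Finite K] in
theorem row_alt (h : IsAlternating K) : Row49 K := by
  obtain ⟨n, hn, ⟨e⟩⟩ := h
  exact (AltRow.row49_alt hn).mulEquiv e.symm

/-- **The rows of the known simple groups.** -/
theorem row_of_known [IsSimpleGroup K] (hS : Cfsg.Agent.H690.Spor.Trans.AllKnown)
    (hna : ¬ IsMulCommutative K) (h : IsKnownSimple' K) : Row49 K := by
  rcases Cfsg.Agent.OddHalf.Known.classify' hna h with h | ⟨p, hp, h⟩ | h | h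
  · exact row_alt h
  · exact Lie.All.row_lie hp h
  · exact (Cfsg.Agent.H704.Spor49.TitsRow.tri_tits h).row49
  · exact row_spor hS h

/-- S4849 from the classification. -/
theorem main (hS : Cfsg.Agent.H690.Spor.Trans.AllKnown)
    (hkn : ∀ (S : Type u) [Group S] [Finite S] [IsSimpleGroup S], IsKnownSimple' S)
    {G : Type u} [Group G] [Finite G] (p : ℕ) [Fact p.Prime] (b : ℕ)
    (hvo : {n : ℕ | ¬ p ∣ n ∧ ∃ (g : G) (χ : Cfsg.IrrCharacter G), orderOf g = n ∧
      (χ : G → ℂ) g = 0} = {b}) :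
    Group.IsSolvable G ∧ ((¬ IsPrimePow b ∧ 1 < b) → ∃ K L N : Subgroup G, K.Normal ∧ L.Normal ∧
      N.Normal ∧ N ≤ L ∧ L ≤ K ∧ (∃ a : ℕ, K.index = p ^ a) ∧ Nat.Coprime (L.relIndex K) p ∧
      (∃ b : ℕ, N.relIndex L = p ^ b) ∧ Nat.Coprime (Nat.card N) p) := by
  refine result_of_row49 (fun S _ _ _ hna => row_of_known hS ?_ (hkn S)) p b hvo
  intro h
  obtain ⟨a, b, hab⟩ := hna
  exact hab (h.is_comm.comm a b)

end Cfsg.Agent.H695.RowsAll
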